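import Groth.Agent.Lib.EtSupp19.Nested
import Groth.Agent.Lib.EtDer.Injective
import Groth.Prelude.Def_RDer

/-!
# Local cohomology commutes with etale localisation
-/

set_option backward.isDefEq.respectTransparency false
set_option backward.isDefEq.respectTransparency.types false

universe u

open CategoryTheory CategoryTheory.Limits AlgebraicGeometry

noncomputable section

namespace GrothLib.EtSupp19

variable {X U W P : Scheme.{u}}

/-- A map killed on an open is zero at the geometric points of the open. -/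
theorem stalk_map_eq_zero (j : U ⟶ X) [IsOpenImmersion j] {F G : EtCoh.Ab X} (f : F ⟶ G)
    (hf : (EtCoh.pull j).map f = 0) {Ω : Type u} [Field Ω] [IsSepClosed Ω]
    (ξ : Spec (CommRingCat.of Ω) ⟶ X) (hξ : ξ.base default ∈ Set.range j.base) :
    (EtCoh.stalk ξ).map f = 0 := by
  obtain ⟨v, hv⟩ := GrothLib.ExtZero.exists_lift_of_mem j ξ hξ
  have h1 : (EtCoh.stalk (v ≫ j)).map f = 0 := by
    rw [← cancel_epi ((GrothLib.EtSite.pullStalkIso v j).hom.app _), comp_zero]
    refine ((GrothLib.EtSite.pullStalkIso v j).hom.naturality f).symm.trans ?_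
    rw [Functor.comp_map, hf, Functor.map_zero, zero_comp]
  rwa [hv] at h1

/-- A map is killed on an open if it is zero at the geometric points of the open. -/
theorem pull_map_eq_zero_of_stalks (j : U ⟶ X) [EtCoh.BCCont j] {F G : EtCoh.Ab X} (f : F ⟶ G)
    (h : ∀ (Ω : Type u) [Field Ω] [IsSepClosed Ω] (ξ : Spec (CommRingCat.of Ω) ⟶ X),
      ξ.base default ∈ Set.range j.base → (EtCoh.stalk ξ).map f = 0) :
    (EtCoh.pull j).map f = 0 := by
  refine GrothLib.ExtZero.zero_of_stalks _ fun Ω _ _ u => ?_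
  have h1 := h Ω (u ≫ j) ⟨u.base default, rfl⟩
  rw [← cancel_mono ((GrothLib.EtSite.pullStalkIso u j).hom.app _), zero_comp]
  exact ((GrothLib.EtSite.pullStalkIso u j).hom.naturality f).trans
    ((congrArg (_ ≫ ·) h1).trans comp_zero)

variable (j : U ⟶ X) [IsOpenImmersion j] (q : W ⟶ X) [Etale q] (j' : P ⟶ W) [IsOpenImmersion j']
  (hr : Set.range j'.base = q.base ⁻¹' Set.range j.base)

include hr in
omit [Etale q] in
theorem pull_pull_kernel_ι (F : EtCoh.Ab X) :
    (EtCoh.pull j').map ((EtCoh.pull q).map (kernel.ι (EtDual.unitApp j F))) = 0 := by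
  refine pull_map_eq_zero_of_stalks j' _ fun Ω _ _ u hu => ?_
  have h1 := stalk_map_eq_zero j _ ((pull_map_eq_zero_iff j _).2 (kernel.condition (EtDual.unitApp j F))) (u ≫ q)
    (show u.base default ∈ q.base ⁻¹' Set.range j.base from hr ▸ hu)
  rw [← cancel_mono ((GrothLib.EtSite.pullStalkIso u q).hom.app _), zero_comp]
  exact ((GrothLib.EtSite.pullStalkIso u q).hom.naturality _).trans
    ((congrArg (_ ≫ ·) h1).trans comp_zero)

/-- The comparison map. -/
def suppComp (F : EtCoh.Ab X) :
    (EtCoh.pull q).obj ((EtDual.secSupp j).obj F) ⟶ (EtDual.secSupp j').obj ((EtCoh.pull q).obj F) :=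
  kernel.lift _ ((EtCoh.pull q).map (kernel.ι (EtDual.unitApp j F)))
    ((pull_map_eq_zero_iff j' _).1 (pull_pull_kernel_ι j q j' hr F))

lemma suppComp_ι (F : EtCoh.Ab X) :
    suppComp j q j' hr F ≫ kernel.ι (EtDual.unitApp j' ((EtCoh.pull q).obj F)) =
      (EtCoh.pull q).map (kernel.ι (EtDual.unitApp j F)) :=
  kernel.lift_ι _ _ _

theorem isIso_suppComp (F : EtCoh.Ab X) : IsIso (suppComp j q j' hr F) := by
  have := GrothLib.Constructible.jcont q
  let adj : EtShriek.extZero q ⊣ EtCoh.pull q :=
    (EtShriek.extZeroAdj q).ofNatIsoRight (GrothLib.ExtZero.restrIsoPull q)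
  have := GrothLib.EtSite.pull_preservesFiniteLimits q
  have hm : Mono (suppComp j q j' hr F) := by
    have : Mono (suppComp j q j' hr F ≫ kernel.ι (EtDual.unitApp j' ((EtCoh.pull q).obj F))) := by
      rw [suppComp_ι]
      infer_instance
    exact mono_of_mono _ (kernel.ι (EtDual.unitApp j' ((EtCoh.pull q).obj F)))
  let K' := kernel (EtDual.unitApp j' ((EtCoh.pull q).obj F))
  let k : K' ⟶ (EtCoh.pull q).obj F := kernel.ι _
  let k₀ : (EtShriek.extZero q).obj K' ⟶ F := (adj.homEquiv _ _).symm k
  have hk₀ : (EtCoh.pull j).map k₀ = 0 := by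
    refine pull_map_eq_zero_of_stalks j _ fun Ω _ _ ξ hξ => IsZero.eq_of_src ?_ _ _
    refine IsZero.of_iso ?_ (GrothLib.ExtZero.sumIso q ξ K').symm
    rw [IsZero.iff_id_eq_zero]
    refine Sigma.hom_ext _ _ fun v => IsZero.eq_of_src ?_ _ _
    have hv : v.1.base default ∈ Set.range j'.base := by
      rw [hr]
      change q.base (v.1.base default) ∈ Set.range j.base
      rw [← Scheme.Hom.comp_apply, v.2]
      exact hξ
    have : (EtCoh.stalk v.1).PreservesMonomorphisms := inferInstance
    have hz : (EtCoh.stalk v.1).map k = 0 :=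
      stalk_map_eq_zero j' k ((pull_map_eq_zero_iff j' _).2 (kernel.condition _)) v.1 hv
    exact IsZero.of_mono_eq_zero _ hz
  let l := kernel.lift (EtDual.unitApp j F) k₀ ((pull_map_eq_zero_iff j _).1 hk₀)
  let s : K' ⟶ (EtCoh.pull q).obj ((EtDual.secSupp j).obj F) := adj.unit.app K' ≫ (EtCoh.pull q).map l
  have hs : s ≫ suppComp j q j' hr F = 𝟙 _ := by
    rw [← cancel_mono (kernel.ι (EtDual.unitApp j' ((EtCoh.pull q).obj F))), Category.assoc, suppComp_ι,
      Category.id_comp]
    refine (Category.assoc _ _ _).trans ?_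
    rw [← Functor.map_comp, kernel.lift_ι]
    exact (adj.homEquiv_unit _ _ k₀).symm.trans (Equiv.apply_symm_apply _ k)
  have : IsSplitEpi (suppComp j q j' hr F) := IsSplitEpi.mk' ⟨s, hs⟩
  exact isIso_of_mono_of_epi _

/-- Sections supported off `U` commute with etale localisation. -/
def suppRestrIso : EtDual.secSupp j ⋙ EtCoh.pull q ≅ EtCoh.pull q ⋙ EtDual.secSupp j' :=
  haveI : ∀ F, IsIso (suppComp j q j' hr F) := isIso_suppComp j q j' hr
  NatIso.ofComponents (fun F => asIso (suppComp j q j' hr F)) (fun {F G} f => by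
    rw [← cancel_mono (kernel.ι (EtDual.unitApp j' ((EtCoh.pull q).obj G)))]
    simp only [Functor.comp_map, asIso_hom, Category.assoc, suppComp_ι, kernel.lift_ι]
    rw [← Category.assoc, suppComp_ι, ← Functor.map_comp, ← Functor.map_comp, kernel.lift_ι])

include hr in
/-- Local cohomology commutes with etale localisation. -/
theorem nonempty_pull_locCoh_iso (p : ℕ) (F : EtCoh.Ab X) :
    Nonempty ((EtCoh.pull q).obj ((EtDual.locCoh j p).obj F) ≅
      (EtDual.locCoh j' p).obj ((EtCoh.pull q).obj F)) := by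
  have := GrothLib.EtSite.pull_preservesFiniteLimits q
  have : PreservesColimitsOfSize.{0, 0} (EtCoh.pull q) := (EtCoh.pullPushAdj q).leftAdjoint_preservesColimits
  have : PreservesFiniteColimits (EtCoh.pull q) := PreservesColimitsOfSize.preservesFiniteColimits _
  let J := injectiveResolution F
  let I := J.cocomplex
  let P' : InjectiveResolution ((EtCoh.pull q).obj F) :=
    { cocomplex := ((EtCoh.pull q).mapHomologicalComplex _).obj I
      ι := RDer.mapAug (EtCoh.pull q) J.ι
      injective := fun i => GrothLib.EtDer.injective_pull_etale q (I.X i)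
      quasiIso := by
        have : QuasiIso (((EtCoh.pull q).mapHomologicalComplex (ComplexShape.up ℕ)).map J.ι) :=
          inferInstance
        exact quasiIso_comp _ _ }
  let K := ((EtDual.secSupp j).mapHomologicalComplex (ComplexShape.up ℕ)).obj I
  exact ⟨(EtCoh.pull q).mapIso (J.isoRightDerivedObj (EtDual.secSupp j) p) ≪≫
    ((K.sc p).mapHomologyIso (EtCoh.pull q)).symm ≪≫
    (HomologicalComplex.homologyFunctor _ _ p).mapIso
      ((NatIso.mapHomologicalComplex (suppRestrIso j q j' hr) (ComplexShape.up ℕ)).app I) ≪≫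
    (P'.isoRightDerivedObj (EtDual.secSupp j') p).symm⟩

end GrothLib.EtSupp19
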