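import Groth.Agent.Lib.EtSupp19.Supp
import Mathlib.Algebra.Homology.ShortComplex.ExactFunctor

/-!
# Left exactness of sections supported off an open, and nested supports
-/

set_option backward.isDefEq.respectTransparency false
set_option backward.isDefEq.respectTransparency.types false

universe u

open CategoryTheory CategoryTheory.Limits AlgebraicGeometry

namespace GrothLib.EtSupp19

variable {X U V : Scheme.{u}} (j : U ⟶ X) (k : V ⟶ X)

lemma push_map_mono [EtCoh.BCCont j] {F G : EtCoh.Ab U} (f : F ⟶ G) [Mono f] : Mono ((EtCoh.push j).map f) :=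
  have : (EtCoh.push j).IsRightAdjoint := (EtCoh.pullPushAdj j).isRightAdjoint
  inferInstance

lemma pull_map_mono [EtCoh.BCCont j] {F G : EtCoh.Ab X} (f : F ⟶ G) [Mono f] : Mono ((EtCoh.pull j).map f) :=
  have := GrothLib.EtSite.pull_preservesFiniteLimits j
  inferInstance

lemma pull_map_eq_zero_iff [EtCoh.BCCont j] {F G : EtCoh.Ab X} (f : F ⟶ G) :
    (EtCoh.pull j).map f = 0 ↔ f ≫ EtDual.unitApp j G = 0 := by
  have : f ≫ EtDual.unitApp j G = (EtCoh.pullPushAdj j).homEquiv _ _ ((EtCoh.pull j).map f) := by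
    rw [Adjunction.homEquiv_unit]
    exact (EtCoh.pullPushAdj j).unit.naturality f
  rw [this]
  constructor
  · intro h
    rw [h, Adjunction.homEquiv_unit, Functor.map_zero, comp_zero]
  · intro h
    apply ((EtCoh.pullPushAdj j).homEquiv _ _).injective
    rw [h, Adjunction.homEquiv_unit, Functor.map_zero, comp_zero]

theorem preservesFiniteLimits_secSupp [EtCoh.BCCont j] : PreservesFiniteLimits (EtDual.secSupp j) := by
  refine ((EtDual.secSupp j).preservesFiniteLimits_tfae.out 0 3).1 fun S hS => ?_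
  have := hS.mono_f
  have hm : Mono ((EtDual.secSupp j).map S.f) := by
    have : Mono ((EtDual.secSupp j).map S.f ≫ kernel.ι (EtDual.unitApp j S.X₂)) := by
      have h : (EtDual.secSupp j).map S.f ≫ kernel.ι (EtDual.unitApp j S.X₂) =
          kernel.ι (EtDual.unitApp j S.X₁) ≫ S.f := kernel.lift_ι _ _ _
      rw [h]
      infer_instance
    exact mono_of_mono _ (kernel.ι (EtDual.unitApp j S.X₂))
  refine ⟨?_, hm⟩
  rw [ShortComplex.exact_iff_exact_up_to_refinements]
  intro A z hz
  have hz' : (z ≫ kernel.ι (EtDual.unitApp j S.X₂)) ≫ S.g = 0 := by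
    have h := congrArg (· ≫ kernel.ι (EtDual.unitApp j S.X₃)) hz
    simp only [zero_comp] at h
    rw [Category.assoc] at h ⊢
    refine Eq.trans ?_ h
    refine congrArg (z ≫ ·) ?_
    exact (kernel.lift_ι _ _ _).symm
  let w := hS.exact.lift _ hz'
  have hw : w ≫ S.f = z ≫ kernel.ι (EtDual.unitApp j S.X₂) := hS.exact.lift_f _ hz'
  have hw0 : w ≫ EtDual.unitApp j S.X₁ = 0 := by
    rw [← pull_map_eq_zero_iff]
    have : Mono ((EtCoh.pull j).map S.f) := pull_map_mono j S.f
    rw [← cancel_mono ((EtCoh.pull j).map S.f), zero_comp, ← Functor.map_comp, hw,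
      pull_map_eq_zero_iff, Category.assoc, kernel.condition, comp_zero]
  refine ⟨A, 𝟙 A, inferInstance, kernel.lift _ w hw0, ?_⟩
  rw [← cancel_mono (kernel.ι (EtDual.unitApp j S.X₂))]
  refine Eq.trans (by simp) (Eq.trans hw.symm ?_)
  exact ((Category.assoc _ _ _).trans ((congrArg (kernel.lift _ w hw0 ≫ ·) (kernel.lift_ι _ _ _)).trans
    ((Category.assoc _ _ _).symm.trans (congrArg (· ≫ S.f) (kernel.lift_ι _ _ _))))).symm

/-- Restriction to a smaller open kills sections killed by restriction to a larger one. -/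
theorem pull_kernel_ι_eq_zero [IsOpenImmersion j] [IsOpenImmersion k]
    (hUV : Set.range j.base ⊆ Set.range k.base) (F : EtCoh.Ab X) :
    (EtCoh.pull j).map (kernel.ι (EtDual.unitApp k F)) = 0 := by
  have hk : (EtCoh.pull k).map (kernel.ι (EtDual.unitApp k F)) = 0 :=
    (pull_map_eq_zero_iff k _).2 (kernel.condition _)
  refine GrothLib.ExtZero.zero_of_stalks _ fun Ω _ _ u => ?_
  obtain ⟨v, hv⟩ := GrothLib.ExtZero.exists_lift_of_mem k (u ≫ j) (hUV ⟨u.base default, rfl⟩)
  have h1 : (EtCoh.stalk (v ≫ k)).map (kernel.ι (EtDual.unitApp k F)) = 0 := by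
    rw [← cancel_epi ((GrothLib.EtSite.pullStalkIso v k).hom.app _), comp_zero]
    refine ((GrothLib.EtSite.pullStalkIso v k).hom.naturality (kernel.ι (EtDual.unitApp k F))).symm.trans ?_
    rw [Functor.comp_map, hk, Functor.map_zero, zero_comp]
  rw [hv] at h1
  rw [← cancel_mono ((GrothLib.EtSite.pullStalkIso u j).hom.app _), zero_comp]
  exact ((GrothLib.EtSite.pullStalkIso u j).hom.naturality (kernel.ι (EtDual.unitApp k F))).trans
    ((congrArg (_ ≫ ·) h1).trans comp_zero)

/-- Sections supported in a smaller closed set are those of the sections supported in a bigger one. -/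
theorem isIso_map_kernel_ι [IsOpenImmersion j] [IsOpenImmersion k]
    (hUV : Set.range j.base ⊆ Set.range k.base) (F : EtCoh.Ab X) :
    IsIso ((EtDual.secSupp k).map (kernel.ι (EtDual.unitApp j F))) := by
  let a : kernel (EtDual.unitApp k F) ⟶ kernel (EtDual.unitApp j F) :=
    kernel.lift _ (kernel.ι _) ((pull_map_eq_zero_iff j _).1 (pull_kernel_ι_eq_zero j k hUV F))
  have ha : a ≫ EtDual.unitApp k (kernel (EtDual.unitApp j F)) = 0 := by
    rw [← pull_map_eq_zero_iff]
    have := pull_map_mono k (kernel.ι (EtDual.unitApp j F))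
    rw [← cancel_mono ((EtCoh.pull k).map (kernel.ι (EtDual.unitApp j F))), zero_comp, ← Functor.map_comp,
      kernel.lift_ι, pull_map_eq_zero_iff, kernel.condition]
  refine ⟨kernel.lift _ a ha, ?_, ?_⟩
  · rw [← cancel_mono (kernel.ι (EtDual.unitApp k _)), ← cancel_mono (kernel.ι (EtDual.unitApp j F))]
    simp [a]
  · rw [← cancel_mono (kernel.ι (EtDual.unitApp k F))]
    simp [a]

end GrothLib.EtSupp19
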