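import Groth.Agent.Lib.EtSupp19.Restr
import Groth.Agent.Lib.EtTate19.Cyclic
import Groth.Prelude.Def_EtCore

/-!
# Etale excision for sections supported on a closed subset
-/

set_option backward.isDefEq.respectTransparency false
set_option backward.isDefEq.respectTransparency.types false

universe u

open CategoryTheory CategoryTheory.Limits AlgebraicGeometry Opposite

noncomputable section

namespace GrothLib.EtSupp19

open GrothLib.EtSite

variable {X X' U U' : Scheme.{u}} (f : X' ⟶ X) [Etale f] (j : U ⟶ X) [IsOpenImmersion j]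

theorem germ_eq_zero_of_killed {G : EtCoh.Ab X} (hG : (EtCoh.pull j).map (𝟙 G) = 0) {Ω : Type u} [Field Ω]
    [IsSepClosed Ω] (ξ : Spec (CommRingCat.of Ω) ⟶ X) (hξ : ξ.base default ∈ Set.range j.base)
    {V : X.Etale} (t : (Scheme.pointSmallEtale ξ).fiber.obj V) (s : EtCoh.sect G V) :
    germ ξ G t s = 0 := by
  have h := congrArg (fun φ => φ (germ ξ G t s)) (stalk_map_eq_zero j (𝟙 G) hG ξ hξ)
  simpa using h

omit [Etale f] in
/-- Two geometric points with the same trivially extended image point are equal. -/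
theorem geomPoint_eq {Ω : Type u} [Field Ω] {x : X'} (hκ : Function.Surjective (f.residueFieldMap x))
    (a b : Spec (CommRingCat.of Ω) ⟶ X') (hab : a ≫ f = b ≫ f)
    (ha : a.base default = x) (hb : b.base default = x) : a = b := by
  obtain ⟨⟨xa, φ⟩, rfl⟩ := (Scheme.SpecToEquivOfField Ω X').symm.surjective a
  obtain ⟨⟨xb, ψ⟩, rfl⟩ := (Scheme.SpecToEquivOfField Ω X').symm.surjective b
  change Spec.map φ ≫ X'.fromSpecResidueField xa = Spec.map ψ ≫ X'.fromSpecResidueField xb
  change (Spec.map φ ≫ X'.fromSpecResidueField xa) ≫ f =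
    (Spec.map ψ ≫ X'.fromSpecResidueField xb) ≫ f at hab
  have hxa : xa = x := by
    rw [← ha]
    exact ((Scheme.Hom.comp_apply _ _ _).trans (Scheme.fromSpecResidueField_apply _ _)).symm
  have hxb : xb = x := by
    rw [← hb]
    exact ((Scheme.Hom.comp_apply _ _ _).trans (Scheme.fromSpecResidueField_apply _ _)).symm
  subst hxa hxb
  congr 2
  simp only [Category.assoc, ← Scheme.Hom.SpecMap_residueFieldMap_fromSpecResidueField, ← Spec.map_comp_assoc] at hab
  have h1 := Spec.map_injective ((cancel_mono _).1 hab)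
  ext r
  obtain ⟨r₀, rfl⟩ := hκ r
  exact congrArg (fun m => m r₀) h1

/-- The object `X' → X` of the small étale site. -/
abbrev exT : X.Etale := (EtShriek.compEtale f).obj (EtCoh.top X')

variable (j' : U' ⟶ X') (hU' : Set.range j'.base = f.base ⁻¹' Set.range j.base)
  (hZ : Set.BijOn f.base (Set.range j'.base)ᶜ (Set.range j.base)ᶜ)
  (hκ : ∀ x' : ↥X', x' ∉ Set.range j'.base → Function.Surjective (f.residueFieldMap x'))

include hU' hZ hκ in
theorem bijective_res (G : EtCoh.Ab X) (hG : (EtCoh.pull j).map (𝟙 G) = 0) :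
    Function.Bijective (G.obj.map ((EtCore.topIsTerminal X).from (exT f)).op :
      EtCoh.sect G (EtCoh.top X) → EtCoh.sect G (exT f)) := by
  have hhom : ((exT f).hom : X' ⟶ X) = f := Category.id_comp f
  have key : ∀ {V : X.Etale} (k₁ k₂ : V ⟶ exT f) (s : EtCoh.sect G (exT f)),
      G.obj.map k₁.op s = G.obj.map k₂.op s := by
    intro V k₁ k₂ s
    rw [← sub_eq_zero]
    refine section_eq_zero_of_germs G V _ fun Ω _ _ ξ t => ?_
    by_cases hξ : ξ.base default ∈ Set.range j.base
    · exact germ_eq_zero_of_killed j hG ξ hξ t _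
    rw [map_sub, germ_map, germ_map, sub_eq_zero]
    refine congrArg (fun q => germ ξ G q s) ?_
    generalize (Scheme.pointSmallEtale ξ).fiber.map k₁ t = a
    generalize (Scheme.pointSmallEtale ξ).fiber.map k₂ t = b
    have hc : ∀ c : (Scheme.pointSmallEtale ξ).fiber.obj (exT f),
        (c.left : Spec (CommRingCat.of Ω) ⟶ X') ≫ f = ξ := fun c =>
      (congrArg ((c.left : Spec (CommRingCat.of Ω) ⟶ X') ≫ ·) hhom.symm).trans (Over.w c)
    have hw : ∀ c : (Scheme.pointSmallEtale ξ).fiber.obj (exT f),
        f.base ((c.left : Spec (CommRingCat.of Ω) ⟶ X').base (default : Spec (CommRingCat.of Ω))) = ξ.base default := fun c =>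
      congrArg (fun m => m.base (default : Spec (CommRingCat.of Ω))) (hc c)
    have hmem : ∀ c : (Scheme.pointSmallEtale ξ).fiber.obj (exT f),
        (c.left : Spec (CommRingCat.of Ω) ⟶ X').base (default : Spec (CommRingCat.of Ω)) ∉ Set.range j'.base := fun c hc' => by
      rw [hU'] at hc'
      exact hξ (hw c ▸ hc')
    exact Over.OverMorphism.ext (geomPoint_eq f (hκ _ (hmem a)) a.left b.left
      ((hc a).trans (hc b).symm) rfl (hZ.injOn (hmem b) (hmem a) ((hw b).trans (hw a).symm)))
  constructor
  · intro s s' h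
    rw [← sub_eq_zero]
    refine section_eq_zero_of_germs G _ _ fun Ω _ _ ξ t => ?_
    by_cases hξ : ξ.base default ∈ Set.range j.base
    · exact germ_eq_zero_of_killed j hG ξ hξ t _
    obtain ⟨x', -, hx'⟩ := hZ.surjOn hξ
    obtain ⟨c, -⟩ := exists_fib ξ (U := exT f) x' (by
      rw [show ((exT f).hom : X' ⟶ X) = f from hhom]; exact hx')
    have : t = (Scheme.pointSmallEtale ξ).fiber.map ((EtCore.topIsTerminal X).from (exT f)) c :=
      Subsingleton.elim (h := GrothLib.EtTate19.subsingleton_fiber_top ξ) _ _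
    rw [this, ← germ_map, map_sub, h, sub_self, map_zero]
  · intro s'
    let R : Sieve (EtCoh.top X) :=
      { arrows := fun V _ => Nonempty (V ⟶ exT f) ∨ Set.range (V.hom : V.left ⟶ X).base ⊆ Set.range j.base
        downward_closed := by
          rintro V W h (⟨⟨k⟩⟩ | hV) g
          · exact Or.inl ⟨g ≫ k⟩
          · refine Or.inr ?_
            rintro - ⟨w, rfl⟩
            have hg : g.left ≫ (V.hom : V.left ⟶ X) = W.hom := MorphismProperty.Over.w g
            rw [← hg]
            exact hV ⟨g.left.base w, rfl⟩ }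
    have hR : R ∈ X.smallEtaleTopology (EtCoh.top X) := by
      rw [mem_topology_iff]
      intro x
      by_cases hx : (x : X) ∈ Set.range j.base
      · obtain ⟨u, hu⟩ := hx
        let V : X.Etale := Scheme.Etale.mk j
        exact ⟨V, (EtCore.topIsTerminal X).from V, u, Or.inr subset_rfl, by
          have hg : ((EtCore.topIsTerminal X).from V).left ≫ (EtCoh.top X).hom = V.hom :=
            MorphismProperty.Over.w _
          rw [← hu]
          exact congrArg (fun m : U ⟶ X => m.base u) hg⟩
      · obtain ⟨x', -, hx'⟩ := hZ.surjOn hx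
        exact ⟨exT f, (EtCore.topIsTerminal X).from _, x', Or.inl ⟨𝟙 _⟩, by
          have hg : ((EtCore.topIsTerminal X).from (exT f)).left ≫ (EtCoh.top X).hom = (exT f).hom :=
            MorphismProperty.Over.w _
          exact (congrArg (fun m : X' ⟶ X => m.base x') (hg.trans hhom)).trans hx'⟩
    have hzero : ∀ {V : X.Etale}, Set.range (V.hom : V.left ⟶ X).base ⊆ Set.range j.base →
        ∀ z : EtCoh.sect G V, z = 0 := by
      intro V hV z
      refine section_eq_zero_of_germs G V _ fun Ω _ _ ξ t => germ_eq_zero_of_killed j hG ξ ?_ t _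
      exact hV ⟨t.left.base (default : Spec (CommRingCat.of Ω)),
        congrArg (fun m => m.base (default : Spec (CommRingCat.of Ω))) (Over.w t)⟩
    classical
    let y : Presieve.FamilyOfElements (G.obj ⋙ forget AddCommGrpCat.{u + 1}) R.arrows := fun V h _ =>
      if hk : Nonempty (V ⟶ exT f) then G.obj.map hk.some.op s' else (0 : EtCoh.sect G V)
    have hy : y.Compatible := by
      intro V₁ V₂ W g₁ g₂ h₁ h₂ m₁ m₂ _
      change G.obj.map g₁.op (y h₁ m₁) = G.obj.map g₂.op (y h₂ m₂)
      by_cases hW : Set.range (W.hom : W.left ⟶ X).base ⊆ Set.range j.base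
      · exact (hzero hW _).trans (hzero hW _).symm
      have hk : ∀ {V : X.Etale} (g : W ⟶ V) (h : V ⟶ EtCoh.top X), R h → Nonempty (V ⟶ exT f) := by
        intro V g h hh
        refine hh.resolve_right fun hV => hW ?_
        rintro - ⟨w, rfl⟩
        have hg : g.left ≫ (V.hom : V.left ⟶ X) = W.hom := MorphismProperty.Over.w g
        rw [← hg]
        exact hV ⟨g.left.base w, rfl⟩
      simp only [y, dif_pos (hk g₁ h₁ m₁), dif_pos (hk g₂ h₂ m₂)]
      rw [← ConcreteCategory.comp_apply, ← ConcreteCategory.comp_apply, ← Functor.map_comp, ← Functor.map_comp,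
        ← op_comp, ← op_comp]
      exact key _ _ _
    obtain ⟨s, hs, -⟩ := ((isSheaf_iff_isSheaf_of_type _ _).1
      ((sheafCompose X.smallEtaleTopology (forget AddCommGrpCat.{u + 1})).obj G).property) R hR y hy
    refine ⟨s, (hs _ (Or.inl ⟨𝟙 _⟩)).trans ?_⟩
    have hT : Nonempty (exT f ⟶ exT f) := ⟨𝟙 _⟩
    refine (dif_pos hT).trans ((key hT.some (𝟙 _) s').trans ?_)
    simp

variable [IsOpenImmersion j']

include hU' hZ hκ in
theorem nonempty_HY_iso_etale (F : EtCoh.Ab X) (r : ℕ) :
    Nonempty ((EtDual.HY j r).obj F ≅ (EtDual.HY j' r).obj ((EtCoh.pull f).obj F)) := by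
  have := GrothLib.Constructible.jcont f
  have := GrothLib.EtSite.pull_preservesFiniteLimits f
  have : PreservesColimitsOfSize.{0, 0} (EtCoh.pull f) := (EtCoh.pullPushAdj f).leftAdjoint_preservesColimits
  have : PreservesFiniteColimits (EtCoh.pull f) := PreservesColimitsOfSize.preservesFiniteColimits _
  let ΓX := sheafToPresheaf X.smallEtaleTopology AddCommGrpCat.{u + 1} ⋙
    (evaluation X.Etaleᵒᵖ AddCommGrpCat.{u + 1}).obj (op (EtCoh.top X))
  let ΓX' := sheafToPresheaf X'.smallEtaleTopology AddCommGrpCat.{u + 1} ⋙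
    (evaluation X'.Etaleᵒᵖ AddCommGrpCat.{u + 1}).obj (op (EtCoh.top X'))
  let α : EtDual.secSupp j ⋙ ΓX ≅ EtDual.secSupp j ⋙ EtShriek.restrAlong f ⋙ ΓX' :=
    haveI : ∀ F, IsIso (((EtDual.secSupp j).obj F).obj.map ((EtCore.topIsTerminal X).from (exT f)).op) := fun F =>
      (ConcreteCategory.isIso_iff_bijective _).2 (bijective_res f j j' hU' hZ hκ _ (by
        have := pull_map_mono j (kernel.ι (EtDual.unitApp j F))
        rw [← cancel_mono ((EtCoh.pull j).map (kernel.ι (EtDual.unitApp j F))), zero_comp,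
          ← Functor.map_comp, Category.id_comp, pull_map_eq_zero_iff, kernel.condition]))
    NatIso.ofComponents
      (fun F => asIso (((EtDual.secSupp j).obj F).obj.map ((EtCore.topIsTerminal X).from (exT f)).op))
      (fun {F F'} g => ((((EtDual.secSupp j).map g).hom).naturality _).symm)
  let J := injectiveResolution F
  let I := J.cocomplex
  let P : InjectiveResolution ((EtCoh.pull f).obj F) :=
    { cocomplex := ((EtCoh.pull f).mapHomologicalComplex _).obj I
      ι := RDer.mapAug (EtCoh.pull f) J.ι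
      injective := fun i => GrothLib.EtDer.injective_pull_etale f (I.X i)
      quasiIso := by
        have : QuasiIso (((EtCoh.pull f).mapHomologicalComplex (ComplexShape.up ℕ)).map J.ι) :=
          inferInstance
        exact quasiIso_comp _ _ }
  let β : EtDual.secSupp j ⋙ ΓX ≅ EtCoh.pull f ⋙ EtDual.gammaSupp j' :=
    α ≪≫ Functor.isoWhiskerLeft (EtDual.secSupp j)
      (Functor.isoWhiskerRight (GrothLib.ExtZero.restrIsoPull f) ΓX') ≪≫
      Functor.isoWhiskerRight (suppRestrIso j f j' hU') ΓX'
  exact ⟨J.isoRightDerivedObj (EtDual.gammaSupp j) r ≪≫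
    (HomologicalComplex.homologyFunctor _ _ r).mapIso
      ((NatIso.mapHomologicalComplex β (ComplexShape.up ℕ)).app I) ≪≫
    (P.isoRightDerivedObj (EtDual.gammaSupp j') r).symm⟩

end GrothLib.EtSupp19
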