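import Groth.Agent.Lib.EtSupp19.HYEdge
import Groth.Agent.Lib.EtSupp19.Restr
import Groth.Prelude.Def_EtCore
import Mathlib.Algebra.Homology.HomologySequenceLemmas

/-!
# Removing a closed subset with vanishing local cohomology
-/

set_option backward.isDefEq.respectTransparency false
set_option backward.isDefEq.respectTransparency.types false

universe u

open CategoryTheory CategoryTheory.Limits AlgebraicGeometry Opposite

noncomputable section

namespace GrothLib.EtSupp19

variable {X X' U : Scheme.{u}} (j : U ⟶ X) [IsOpenImmersion j] (k : X' ⟶ X) [IsOpenImmersion k]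
  (j' : U ⟶ X') [IsOpenImmersion j'] (hfac : j' ≫ k = j)

omit [IsOpenImmersion j] [IsOpenImmersion k] [IsOpenImmersion j'] in
include hfac in
lemma range_subset_of_fac : Set.range j.base ⊆ Set.range k.base := by
  rintro - ⟨u, rfl⟩
  exact ⟨j'.base u, by rw [← hfac]; rfl⟩

omit [IsOpenImmersion j] [IsOpenImmersion j'] in
include hfac in
lemma range_eq_of_fac : Set.range j'.base = k.base ⁻¹' Set.range j.base := by
  ext x
  constructor
  · rintro ⟨u, rfl⟩
    exact ⟨u, by rw [← hfac]; rfl⟩
  · rintro ⟨u, hu⟩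
    exact ⟨u, k.isOpenEmbedding.injective ((show k.base (j'.base u) = j.base u by
      rw [← hfac]; rfl).trans hu)⟩

/-- Sections supported in the smaller closed set, computed in two steps. -/
def nestedIso (hr : Set.range j.base ⊆ Set.range k.base) :
    EtDual.secSupp j ⋙ EtDual.secSupp k ≅ EtDual.secSupp k :=
  haveI := isIso_map_kernel_ι j k hr
  NatIso.ofComponents (fun F => asIso ((EtDual.secSupp k).map (kernel.ι (EtDual.unitApp j F)))) (fun {F G} f =>
    ((EtDual.secSupp k).map_comp ((EtDual.secSupp j).map f) (kernel.ι (EtDual.unitApp j G))).symm.trans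
      ((congrArg (EtDual.secSupp k).map
        (show (EtDual.secSupp j).map f ≫ kernel.ι (EtDual.unitApp j G) =
          kernel.ι (EtDual.unitApp j F) ≫ f from kernel.lift_ι _ _ _)).trans
        ((EtDual.secSupp k).map_comp _ _)))

variable [EtCoh.BCCont j] [EtCoh.BCCont k] [EtCoh.BCCont j']

include hfac in
theorem nonempty_HY_iso_off (F : EtCoh.Ab X) (m : ℕ)
    (hZ : ∀ p ≤ m + 1, IsZero ((EtDual.locCoh k p).obj F)) :
    Nonempty ((EtDual.HY j m).obj F ≅ (EtDual.HY j' m).obj ((EtCoh.pull k).obj F)) := by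
  have hr := range_subset_of_fac j k j' hfac
  have hr' := range_eq_of_fac j k j' hfac
  have := GrothLib.EtSite.pull_preservesFiniteLimits k
  have : PreservesColimitsOfSize.{0, 0} (EtCoh.pull k) := (EtCoh.pullPushAdj k).leftAdjoint_preservesColimits
  have : PreservesFiniteColimits (EtCoh.pull k) := PreservesColimitsOfSize.preservesFiniteColimits _
  have : (EtCoh.push k).Additive := (EtCoh.pullPushAdj k).right_adjoint_additive
  let J := injectiveResolution F
  let I := J.cocomplex
  let Γ₀ : EtCoh.Ab X ⥤ AddCommGrpCat.{u + 1} :=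
    sheafToPresheaf X.smallEtaleTopology AddCommGrpCat.{u + 1} ⋙
      (evaluation X.Etaleᵒᵖ AddCommGrpCat.{u + 1}).obj (op (EtCoh.top X))
  let G := ((EtDual.secSupp j).mapHomologicalComplex (ComplexShape.up ℕ)).obj I
  let Q : EtCoh.Ab X ⥤ EtCoh.Ab X := EtCoh.pull k ⋙ EtCoh.push k
  let K₁ := ((EtDual.secSupp k ⋙ Γ₀).mapHomologicalComplex (ComplexShape.up ℕ)).obj G
  let K₂ := (Γ₀.mapHomologicalComplex (ComplexShape.up ℕ)).obj G
  let K₃ := ((Q ⋙ Γ₀).mapHomologicalComplex (ComplexShape.up ℕ)).obj G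
  let ι : K₁ ⟶ K₂ :=
    { f := fun i => Γ₀.map (kernel.ι (EtDual.unitApp k (G.X i)))
      comm' := fun i i' _ => (Γ₀.map_comp _ _).symm.trans
        ((congrArg Γ₀.map (kernel.lift_ι _ _ _).symm).trans (Γ₀.map_comp _ _)) }
  let η : K₂ ⟶ K₃ :=
    { f := fun i => Γ₀.map (EtDual.unitApp k (G.X i))
      comm' := fun i i' _ => (Γ₀.map_comp _ _).symm.trans
        ((congrArg Γ₀.map ((EtCoh.pullPushAdj k).unit.naturality (G.d i i')).symm).trans (Γ₀.map_comp _ _)) }
  have w : ι ≫ η = 0 := HomologicalComplex.hom_ext _ _ fun i =>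
    (Γ₀.map_comp _ _).symm.trans ((congrArg Γ₀.map (kernel.condition _)).trans (Γ₀.map_zero _ _))
  have hG : ∀ i, Injective (G.X i) := fun i => injective_secSupp j (I.X i)
  have hS : (ShortComplex.mk ι η w).ShortExact := by
    refine HomologicalComplex.shortExact_of_degreewise_shortExact _ fun i => ?_
    have := hG i
    have : Injective (ShortComplex.mk (kernel.ι (EtDual.unitApp k (G.X i)))
      (EtDual.unitApp k (G.X i)) (kernel.condition _)).X₁ := injective_secSupp k (G.X i)
    exact ((shortExact_supp k (G.X i)).splittingOfInjective.map Γ₀).shortExact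
  have hK₁ : ∀ p ≤ m + 1, IsZero (K₁.homology p) := fun p hp =>
    ((isZero_HY k F p fun i hi => hZ i (hi.trans hp)).of_iso
      (J.isoRightDerivedObj (EtDual.gammaSupp k) p).symm).of_iso
      ((HomologicalComplex.homologyFunctor _ _ p).mapIso
        ((NatIso.mapHomologicalComplex (Functor.isoWhiskerRight (nestedIso j k hr) Γ₀)
          (ComplexShape.up ℕ)).app I))
  have hmono : Mono (HomologicalComplex.homologyMap η m) :=
    (hS.homology_exact₂ m).mono_g ((hK₁ m (by omega)).eq_of_src _ _)
  have hepi : Epi (HomologicalComplex.homologyMap η m) :=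
    (hS.homology_exact₃ m (m + 1) (by simp)).epi_f ((hK₁ (m + 1) le_rfl).eq_of_tgt _ _)
  have : IsIso (HomologicalComplex.homologyMap η m) := isIso_of_mono_of_epi _
  let P : InjectiveResolution ((EtCoh.pull k).obj F) :=
    { cocomplex := ((EtCoh.pull k).mapHomologicalComplex _).obj I
      ι := RDer.mapAug (EtCoh.pull k) J.ι
      injective := fun i => GrothLib.EtDer.injective_pull_etale k (I.X i)
      quasiIso := by
        have : QuasiIso (((EtCoh.pull k).mapHomologicalComplex (ComplexShape.up ℕ)).map J.ι) :=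
          inferInstance
        exact quasiIso_comp _ _ }
  let α : (EtDual.secSupp j ⋙ EtCoh.pull k) ⋙ (EtCoh.push k ⋙ Γ₀) ≅
      (EtCoh.pull k ⋙ EtDual.secSupp j') ⋙
        (sheafToPresheaf X'.smallEtaleTopology AddCommGrpCat.{u + 1} ⋙
          (evaluation X'.Etaleᵒᵖ AddCommGrpCat.{u + 1}).obj (op (EtCoh.top X'))) :=
    Functor.isoWhiskerRight (suppRestrIso j k j' hr') _ ≪≫
      Functor.isoWhiskerLeft _ (EtCore.pushGsecIso k)
  have : ((EtCoh.push k ⋙ Γ₀)).Additive := inferInstance
  exact ⟨J.isoRightDerivedObj (EtDual.gammaSupp j) m ≪≫ asIso (HomologicalComplex.homologyMap η m) ≪≫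
    (HomologicalComplex.homologyFunctor _ _ m).mapIso
      ((NatIso.mapHomologicalComplex α (ComplexShape.up ℕ)).app I) ≪≫
    (P.isoRightDerivedObj (EtDual.gammaSupp j') m).symm⟩

end GrothLib.EtSupp19
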