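import Groth.Agent.Lib.EtDer.Injective
import Groth.Prelude.Def_EtDual
import Mathlib.CategoryTheory.Preadditive.Injective.Preserves
import Mathlib.Algebra.Homology.ShortComplex.Abelian

/-!
# Sections supported off an open subscheme
-/

set_option backward.isDefEq.respectTransparency false
set_option backward.isDefEq.respectTransparency.types false

universe u

open CategoryTheory CategoryTheory.Limits AlgebraicGeometry

namespace GrothLib.EtSupp19

section Generic

variable {A B : Type*} [Category A] [Category B] {L : B ⥤ A} {F : A ⥤ B} {R : B ⥤ A}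

/-- The unit at an injective object is split epi when the extension by zero counit is mono. -/
theorem isSplitEpi_unit (adj : L ⊣ F) (adj' : F ⊣ R) (I : A) [Injective I]
    [Mono (adj.counit.app (R.obj (F.obj I)))] : IsSplitEpi (adj'.unit.app I) := by
  let b : F.obj (R.obj (F.obj I)) ⟶ F.obj I := adj'.counit.app (F.obj I)
  let a : R.obj (F.obj I) ⟶ I :=
    Injective.factorThru ((adj.homEquiv _ I).symm b) (adj.counit.app (R.obj (F.obj I)))
  have ha : adj.counit.app (R.obj (F.obj I)) ≫ a = (adj.homEquiv _ I).symm b :=
    Injective.comp_factorThru _ _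
  have hFa : F.map a = b := by
    have := congrArg (adj.homEquiv _ I) ha
    rw [Equiv.apply_symm_apply] at this
    rw [← this, Adjunction.homEquiv_unit, Functor.map_comp]
    exact (adj.right_triangle_components_assoc (R.obj (F.obj I)) (F.map a)).symm
  refine IsSplitEpi.mk' ⟨a, ?_⟩
  apply (adj'.homEquiv _ _).symm.injective
  rw [Adjunction.homEquiv_counit, Adjunction.homEquiv_counit, Functor.map_comp, Category.assoc]
  refine (congrArg (F.map a ≫ ·) (adj'.left_triangle_components I)).trans ((Category.comp_id _).trans ?_)
  refine hFa.trans ?_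
  refine ((congrArg (· ≫ adj'.counit.app (F.obj I)) (F.map_id _)).trans (Category.id_comp _)).symm

end Generic

variable {X U : Scheme.{u}} (j : U ⟶ X) [IsOpenImmersion j]

/-- Extension by zero as a left adjoint of the inverse image. -/
noncomputable def extPullAdj : EtShriek.extZero j ⊣ EtCoh.pull j :=
  (EtShriek.extZeroAdj j).ofNatIsoRight (GrothLib.ExtZero.restrIsoPull j)

theorem mono_counit_restr (G : EtCoh.Ab X) : Mono ((EtShriek.extZeroAdj j).counit.app G) := by
  refine Preadditive.mono_of_cancel_zero _ fun {W} g hg => GrothLib.ExtZero.zero_of_stalks g fun Ω _ _ ξ => ?_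
  have h : (EtCoh.stalk ξ).map g ≫ (EtCoh.stalk ξ).map ((EtShriek.extZeroAdj j).counit.app G) = 0 := by
    rw [← Functor.map_comp, hg, Functor.map_zero]
  by_cases hξ : ξ.base default ∈ Set.range j.base
  · have := GrothLib.ExtZero.isIso_stalk_counit j G ξ hξ
    exact zero_of_comp_mono _ h
  · exact (GrothLib.ExtZero.stalk_extZero_isZero j ((EtShriek.restrAlong j).obj G) ξ
      (GrothLib.ExtZero.ne_of_notMem_range j ξ hξ)).eq_of_tgt _ _

theorem mono_counit (G : EtCoh.Ab X) : Mono ((extPullAdj j).counit.app G) := by
  have := mono_counit_restr j G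
  have h : (extPullAdj j).counit.app G =
      (EtShriek.extZero j).map ((GrothLib.ExtZero.restrIsoPull j).inv.app G) ≫
        (EtShriek.extZeroAdj j).counit.app G := by
    simp [extPullAdj, Adjunction.ofNatIsoRight, Adjunction.mkOfHomEquiv, Adjunction.homEquiv_counit,
      Adjunction.equivHomsetRightOfNatIso]
  rw [h]
  infer_instance

theorem isSplitEpi_unitApp (I : EtCoh.Ab X) [Injective I] : IsSplitEpi (EtDual.unitApp j I) :=
  have := mono_counit j ((EtCoh.push j).obj ((EtCoh.pull j).obj I))
  isSplitEpi_unit (extPullAdj j) (EtCoh.pullPushAdj j) I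

theorem shortExact_supp (I : EtCoh.Ab X) [Injective I] :
    (ShortComplex.mk (kernel.ι (EtDual.unitApp j I)) (EtDual.unitApp j I) (kernel.condition _)).ShortExact :=
  have := isSplitEpi_unitApp j I
  { exact := ShortComplex.exact_of_f_is_kernel _ (kernelIsKernel _) }

/-- Sections supported off `U` of an injective sheaf form an injective sheaf. -/
theorem injective_secSupp (I : EtCoh.Ab X) [Injective I] : Injective ((EtDual.secSupp j).obj I) := by
  have hse := isSplitEpi_unitApp j I
  let s := section_ (EtDual.unitApp j I)
  have hs : s ≫ EtDual.unitApp j I = 𝟙 _ := IsSplitEpi.id _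
  refine Retract.injective (Y := I) ⟨kernel.ι (EtDual.unitApp j I),
    kernel.lift _ (𝟙 I - EtDual.unitApp j I ≫ s) ?_, ?_⟩
  · rw [Preadditive.sub_comp, Category.id_comp, Category.assoc, hs, Category.comp_id, sub_self]
  · rw [← cancel_mono (kernel.ι (EtDual.unitApp j I)), Category.assoc, kernel.lift_ι, Preadditive.comp_sub,
      Category.comp_id, ← Category.assoc, kernel.condition, zero_comp, sub_zero, Category.id_comp]

instance preservesInjectiveObjects_secSupp : (EtDual.secSupp j).PreservesInjectiveObjects where
  injective_obj {I} hI := injective_secSupp j I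

end GrothLib.EtSupp19
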