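import Groth.Agent.Lib.Edge19.Out
import Groth.Agent.Lib.EtSupp19.Supp

/-!
# Local cohomology groups in the first non vanishing degree
-/

set_option backward.isDefEq.respectTransparency false
set_option backward.isDefEq.respectTransparency.types false

universe u

open CategoryTheory CategoryTheory.Limits AlgebraicGeometry Opposite

namespace GrothLib.EtSupp19

variable {X U : Scheme.{u}} (j : U ⟶ X) [IsOpenImmersion j] [EtCoh.BCCont j]

theorem nonempty_HY_iso (F : EtCoh.Ab X) (n : ℕ)
    (h : ∀ p < n, IsZero ((EtDual.locCoh j p).obj F)) :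
    Nonempty ((EtDual.HY j n).obj F ≅ ((EtDual.locCoh j n).obj F).obj.obj (op (EtCoh.top X))) := by
  have := GrothLib.Edge19.isIso_homologyComparison
    (sheafToPresheaf X.smallEtaleTopology AddCommGrpCat.{u + 1} ⋙
      (evaluation X.Etaleᵒᵖ AddCommGrpCat.{u + 1}).obj (op (EtCoh.top X)))
    (((EtDual.secSupp j).mapHomologicalComplex (ComplexShape.up ℕ)).obj (injectiveResolution F).cocomplex) n
    (fun i _ => GrothLib.EtSupp19.injective_secSupp j _)
    (fun i hi => (h i hi).of_iso ((injectiveResolution F).isoRightDerivedObj (EtDual.secSupp j) i).symm)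
  have : IsIso (RDer.edgeOut (EtDual.secSupp j) (sheafToPresheaf X.smallEtaleTopology AddCommGrpCat.{u + 1} ⋙
      (evaluation X.Etaleᵒᵖ AddCommGrpCat.{u + 1}).obj (op (EtCoh.top X))) n F) := by
    unfold RDer.edgeOut
    infer_instance
  exact ⟨asIso (RDer.edgeOut (EtDual.secSupp j) (sheafToPresheaf X.smallEtaleTopology AddCommGrpCat.{u + 1} ⋙
      (evaluation X.Etaleᵒᵖ AddCommGrpCat.{u + 1}).obj (op (EtCoh.top X))) n F)⟩

theorem isZero_HY (F : EtCoh.Ab X) (n : ℕ) (h : ∀ p ≤ n, IsZero ((EtDual.locCoh j p).obj F)) :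
    IsZero ((EtDual.HY j n).obj F) := by
  obtain ⟨e⟩ := nonempty_HY_iso j F n (fun p hp => h p hp.le)
  exact ((sheafToPresheaf X.smallEtaleTopology AddCommGrpCat.{u + 1} ⋙
    (evaluation X.Etaleᵒᵖ AddCommGrpCat.{u + 1}).obj (op (EtCoh.top X))).map_isZero (h n le_rfl)).of_iso e

end GrothLib.EtSupp19
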